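import Groth.Agent.L17.Approx.Extend
import Mathlib.AlgebraicGeometry.Noetherian
import Mathlib.Order.Zorn

/-!
# Submodules of finite type on a locally Noetherian scheme
-/

set_option autoImplicit false
set_option linter.style.haveILetI false
set_option backward.isDefEq.respectTransparency false

universe u

open CategoryTheory CategoryTheory.Limits AlgebraicGeometry TopologicalSpace Opposite

noncomputable section

namespace Groth.L17.CohUnion

open Groth.L17.Approx (FTOn exists_fg_submodule ftOn_of_isIso_restrict isIso_restrict_of_bijective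
  bijective_app_of_isIso_restrict smul_restrict_ι exists_image_sections)

variable {X : Scheme.{u}}

theorem isCompact_inter [IsLocallyNoetherian X] (U : X.Opens) {W : X.Opens} (hW : IsAffineOpen W) :
    IsCompact ((U : Set X) ∩ W) := by
  haveI := IsLocallyNoetherian.component_noetherian ⟨W, hW⟩
  haveI : NoetherianSpace (W : Scheme.{u}) := noetherianSpace_of_isAffineOpen W hW
  have h : IsCompact (W.ι ⁻¹' (U : Set X)) := NoetherianSpace.isCompact _
  have := h.image W.ι.continuous
  rwa [Set.image_preimage_eq_inter_range, Scheme.Opens.range_ι] at this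

theorem quasiCompact_ι [IsLocallyNoetherian X] (W : X.Opens) : QuasiCompact W.ι := by
  refine (quasiCompact_iff_forall_isAffineOpen).2 fun U hU => ?_
  rw [W.ι.isOpenEmbedding.isInducing.isCompact_iff]
  rw [show W.ι '' (W.ι ⁻¹ᵁ U : Set W.toScheme) = (W : Set X) ∩ U by
    rw [Scheme.Hom.coe_preimage, Set.image_preimage_eq_inter_range, Scheme.Opens.range_ι, Set.inter_comm]]
  exact isCompact_inter W hU

/-- Sections of `H` whose restrictions to `W` lie in `K`. -/
theorem exists_shrink [IsLocallyNoetherian X] (H : X.Modules) [Coh.IsQCoh H] (W : X.Opens)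
    (K : (↑W : Scheme.{u}).Modules) [Coh.IsQCoh K]
    (a : K ⟶ H.restrict W.ι) [Mono a] :
    ∃ (E : X.Modules) (i : E ⟶ H) (e : E.restrict W.ι ≅ K), Mono i ∧ Coh.IsQCoh E ∧
      e.hom ≫ a = (Scheme.Modules.restrictFunctor W.ι).map i ∧
      ∀ V : X.Opens, (∀ O : (↑W : Scheme.{u}).Opens, W.ι ''ᵁ O ≤ V → Function.Bijective (a.app O)) →
        IsIso ((Scheme.Modules.restrictFunctor V.ι).map i) := by
  haveI := quasiCompact_ι W
  let R := Scheme.Modules.restrictFunctor W.ι
  let P := Scheme.Modules.pushforward W.ι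
  let adj := Scheme.Modules.restrictAdjunction W.ι
  let η : H ⟶ P.obj (H.restrict W.ι) := adj.unit.app H
  let p : P.obj K ⟶ P.obj (H.restrict W.ι) := P.map a
  haveI : PreservesLimitsOfSize.{0, 0} P := adj.rightAdjoint_preservesLimits
  haveI : Mono p := P.map_mono a
  haveI : Coh.IsQCoh (H.restrict W.ι) := Scheme.Modules.isQuasicoherent_restrictFunctor _ H
  haveI : Coh.IsQCoh (P.obj K) := Groth.L16.QcqsPush.isQCoh_push K W.ι
  haveI : Coh.IsQCoh (P.obj (H.restrict W.ι)) := Groth.L16.QcqsPush.isQCoh_push (H.restrict W.ι) W.ι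
  haveI : Coh.IsQCoh (cokernel p) := Groth.L29.DC.isQCoh_cokernel' p inferInstance inferInstance
  let φ := η ≫ cokernel.π p
  haveI hE : Coh.IsQCoh (kernel φ) := Groth.L29.DC.isQCoh_kernel' φ inferInstance inferInstance
  haveI : IsIso (R.map η) := by
    have h := adj.left_triangle_components H
    haveI : IsIso (adj.counit.app (R.obj H)) := inferInstance
    exact IsIso.of_isIso_fac_right h
  -- on `W`
  let c := adj.counit.app (H.restrict W.ι)
  haveI : IsIso c := inferInstance
  have hc : c ≫ R.map η = 𝟙 _ := by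
    have h : R.map η ≫ c = 𝟙 _ := adj.left_triangle_components H
    exact (cancel_epi (R.map η)).1 ((Category.assoc _ _ _).symm.trans
      ((congrArg (· ≫ R.map η) h).trans ((Category.id_comp _).trans (Category.comp_id _).symm)))
  have hcφ : c ≫ R.map φ = R.map (cokernel.π p) := by
    rw [R.map_comp, ← Category.assoc, hc]
    exact Category.id_comp _
  have hnat : R.map p ≫ c = adj.counit.app K ≫ a := adj.counit.naturality a
  have h0 : a ≫ R.map φ = 0 := by
    haveI : IsIso (adj.counit.app K) := inferInstance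
    rw [← cancel_epi (adj.counit.app K), comp_zero]
    exact ((Category.assoc _ _ _).symm.trans ((congrArg (· ≫ R.map φ) hnat.symm).trans
      ((Category.assoc _ _ _).trans ((congrArg (R.map p ≫ ·) hcφ).trans
        ((R.map_comp _ _).symm.trans ((congrArg R.map (cokernel.condition p)).trans (R.map_zero _ _)))))))
  let S : ShortComplex (↑W : Scheme.{u}).Modules := ShortComplex.mk a (R.map φ) h0
  have hS : S.Exact := by
    refine (ShortComplex.exact_iff_of_iso (ShortComplex.isoMk (asIso (adj.counit.app K))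
      (asIso c) (Iso.refl _) hnat.symm (hcφ.trans (Category.comp_id _).symm) :
        (ShortComplex.mk p (cokernel.π p) (cokernel.condition p)).map R ≅ S)).1 ?_
    exact (ShortComplex.exact_of_g_is_cokernel _ (cokernelIsCokernel p)).map R
  haveI : Mono S.f := inferInstanceAs (Mono a)
  let e₀ := IsLimit.conePointUniqueUpToIso (kernelIsKernel S.g) hS.fIsKernel
  let e : (kernel φ).restrict W.ι ≅ K := PreservesKernel.iso R φ ≪≫ e₀
  have he : e.hom ≫ a = R.map (kernel.ι φ) := by
    have h1 : e₀.hom ≫ S.f = kernel.ι S.g :=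
      IsLimit.conePointUniqueUpToIso_hom_comp (kernelIsKernel S.g) hS.fIsKernel WalkingParallelPair.zero
    show (_ ≫ _) ≫ S.f = _
    rw [Category.assoc, h1]
    exact kernelComparison_comp_ι φ R
  refine ⟨kernel φ, kernel.ι φ, e, inferInstance, hE, he, fun V hV => ?_⟩
  let RV := Scheme.Modules.restrictFunctor V.ι
  haveI : IsIso (RV.map p) := isIso_restrict_of_bijective p V fun O hO => by
    refine hV (W.ι ⁻¹ᵁ O) ?_
    rintro _ ⟨x, hx, rfl⟩
    exact hO hx
  have hz : RV.map (cokernel.π p) = 0 := by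
    have h : RV.map p ≫ RV.map (cokernel.π p) = 0 := by rw [← RV.map_comp, cokernel.condition, RV.map_zero]
    exact (cancel_epi (RV.map p)).1 (h.trans comp_zero.symm)
  have hφ0 : RV.map φ = 0 := by rw [RV.map_comp, hz, comp_zero]
  haveI : IsIso (kernel.ι (RV.map φ)) :=
    ⟨kernel.lift _ (𝟙 _) (by rw [hφ0, comp_zero]),
      by rw [← cancel_mono (kernel.ι (RV.map φ)), Category.assoc, kernel.lift_ι, Category.comp_id, Category.id_comp],
      kernel.lift_ι _ _ _⟩
  rw [← kernelComparison_comp_ι φ RV]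
  infer_instance

/-- A submodule of finite type on one more affine open. -/
theorem exists_step [IsLocallyNoetherian X] (H : X.Modules) [Coh.IsQCoh H] (U : X.Opens)
    (hFT : FTOn H U) {W : X.Opens} (hW : IsAffineOpen W) :
    ∃ (E : X.Modules) (i : E ⟶ H), Mono i ∧ Coh.IsQCoh E ∧
      IsIso ((Scheme.Modules.restrictFunctor U.ι).map i) ∧ FTOn E ((U : Set X) ∪ W) := by
  classical
  obtain ⟨N, hN, T, hT, hgen⟩ := exists_fg_submodule hW (isCompact_inter U hW) hFT
  obtain ⟨n, t, rfl⟩ := Submodule.fg_iff_exists_fin_generating_family.1 hN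
  let P := H.restrict W.ι
  haveI : Coh.IsQCoh P := Scheme.Modules.isQuasicoherent_restrictFunctor _ H
  haveI : IsAffine W.toScheme := hW
  let I := ULift.{u} (Fin n)
  let t' : I → Γ(P, ⊤) := fun q => Groth.L18.Frame.rs H W.ι_image_top.le (t q.down)
  let z : I → P.sections := fun q => P.unitHomEquiv (Groth.L16.homOfSection P (t' q))
  let F₀ : W.toScheme.Modules := SheafOfModules.free I
  let ψ : F₀ ⟶ P := P.freeHomEquiv.symm z
  have hψ : ∀ q, t' q ∈ Set.range (Scheme.Modules.Hom.app ψ ⊤) := fun q =>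
    ⟨(SheafOfModules.freeSection q).eval (op ⊤),
      (congrArg (fun s : P.sections => s.eval (op ⊤))
        ((SheafOfModules.freeHomEquiv_apply ψ q).symm.trans
          (congrFun (Equiv.apply_symm_apply P.freeHomEquiv z) q))).trans
        ((Groth.L16.homOfSection_app P (t' q) ⊤ 1).trans ((one_smul _ _).trans (Groth.L18.Frame.rs_self P _ _)))⟩
  let K : W.toScheme.Modules := Abelian.image ψ
  let a : K ⟶ P := Abelian.image.ι ψ
  haveI hlf : SheafOfModules.IsLocallyFree.{u, u, u} (R := W.toScheme.ringCatSheaf) F₀ :=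
    inferInstanceAs (SheafOfModules.IsLocallyFree.{u, u, u}
      (SheafOfModules.free.{u, u, u} (R := W.toScheme.ringCatSheaf) I))
  haveI hfree : Coh.IsQCoh F₀ := inferInstance
  haveI : Coh.IsQCoh K := Groth.L29.DC.isQCoh_kernel' _ inferInstance
    (Groth.L29.DC.isQCoh_cokernel' ψ hfree inferInstance)
  have hψa : ∀ q, t' q ∈ Set.range (a.app ⊤) := fun q => by
    obtain ⟨y, hy⟩ := hψ q
    refine ⟨Scheme.Modules.Hom.app (show F₀ ⟶ K from Abelian.factorThruImage ψ) ⊤ y, ?_⟩
    rw [← hy]
    exact congr(($(Abelian.image.fac ψ)).app ⊤ y)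
  have hst : ∀ x : W.toScheme, W.ι x ∈ U →
      Function.Surjective ((Groth.L00.Stk.F W.toScheme x).map a) := by
    intro x hx
    have hx' : W.ι x ∈ (U : Set X) ∩ W := ⟨hx, x.2⟩
    rw [hT] at hx'
    obtain ⟨g, hg, hxg⟩ := Set.mem_iUnion₂.1 hx'
    let D := W.ι ⁻¹ᵁ X.basicOpen g
    have hDW : W.ι ''ᵁ D = X.basicOpen g := by
      rw [W.ι.image_preimage_eq_opensRange_inf, Scheme.Opens.opensRange_ι]
      exact inf_eq_right.2 (X.basicOpen_le g)
    have hD : IsAffineOpen D := by
      rw [← W.ι.isAffineOpen_iff_of_isOpenImmersion, hDW]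
      exact hW.basicOpen g
    refine Groth.L16.Acc.stalk_surjective a hD (fun z => ?_) hxg
    let w : Γ(H, X.basicOpen g) := Groth.L18.Frame.rs H hDW.ge z
    have hw : w ∈ Submodule.span Γ(X, X.basicOpen g) (Groth.L18.Frame.rs H (X.basicOpen_le g) ''
        (Submodule.span Γ(X, W) (Set.range t) : Set Γ(H, W))) := hgen g hg ▸ Submodule.mem_top
    have hback : z = Groth.L18.Frame.rs H hDW.le w := by
      rw [Groth.L18.Frame.rs_rs]
      exact (Groth.L18.Frame.rs_self H _ _).symm
    suffices Groth.L18.Frame.rs H hDW.le w ∈ Set.range (a.app D) by rwa [← hback] at this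
    have hsmul : ∀ (c : Γ(X, X.basicOpen g)) (v : Γ(H, X.basicOpen g)),
        Groth.L18.Frame.rs H hDW.le v ∈ Set.range (a.app D) →
        Groth.L18.Frame.rs H hDW.le (c • v) ∈ Set.range (a.app D) := by
      rintro c v ⟨k, hk⟩
      refine ⟨(show Γ(W.toScheme, D) from Groth.L18.Frame.ro (X := X) hDW.le c) • k, ?_⟩
      rw [a.app_smul, hk, Groth.L18.Frame.rs_smul]
      exact smul_restrict_ι H W D _ _
    refine Submodule.span_induction (p := fun v _ => Groth.L18.Frame.rs H hDW.le v ∈ Set.range (a.app D))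
      ?_ ⟨0, (map_zero _).trans (map_zero _).symm⟩ ?_ (fun c v _ h => hsmul c v h) hw
    · rintro _ ⟨m, hm, rfl⟩
      rw [Groth.L18.Frame.rs_rs]
      refine Submodule.span_induction
        (p := fun m _ => Groth.L18.Frame.rs H (hDW.le.trans (X.basicOpen_le g)) m ∈ Set.range (a.app D))
        ?_ ⟨0, (map_zero _).trans (map_zero _).symm⟩ ?_ ?_ hm
      · rintro _ ⟨q, rfl⟩
        obtain ⟨k, hk⟩ := hψa ⟨q⟩
        refine ⟨Groth.L18.Frame.rs K le_top k, ?_⟩
        rw [Groth.L16.EpiFrames.app_rs, hk]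
        exact Groth.L18.Frame.rs_rs H _ _ _
      · rintro u v _ _ ⟨k, hk⟩ ⟨l, hl⟩
        exact ⟨k + l, by rw [map_add, hk, hl]; exact (map_add _ _ _).symm⟩
      · rintro c v _ ⟨k, hk⟩
        refine ⟨(show Γ(W.toScheme, D) from Groth.L18.Frame.ro (X := X) (hDW.le.trans (X.basicOpen_le g)) c) • k, ?_⟩
        rw [a.app_smul, hk, Groth.L18.Frame.rs_smul]
        exact smul_restrict_ι H W D _ _
    · rintro u v _ _ ⟨k, hk⟩ ⟨l, hl⟩
      exact ⟨k + l, by rw [map_add, hk, hl]; exact (map_add _ _ _).symm⟩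
  have hbij : ∀ O : W.toScheme.Opens, W.ι ''ᵁ O ≤ U → Function.Bijective (a.app O) := fun O hO => by
    have h := TopCat.Presheaf.app_bijective_of_stalkFunctor_map_bijective
      (F := ((Groth.L21.Mod.toAbSh W.toScheme).obj K)) (G := ((Groth.L21.Mod.toAbSh W.toScheme).obj P))
      ((Groth.L21.Mod.toAbSh W.toScheme).map a) O fun x hx => ?_
    · exact h
    · exact ⟨(ModuleCat.mono_iff_injective ((Groth.L00.Stk.F W.toScheme x).map a)).1 inferInstance,
        hst x (hO ⟨x, hx, rfl⟩)⟩
  obtain ⟨E, i, e, hi, hE, -, hV⟩ := exists_shrink H W K a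
  haveI := hV U hbij
  refine ⟨E, i, hi, hE, hV U hbij, fun x hx => ?_⟩
  rcases hx with hx | hx
  · exact ftOn_of_isIso_restrict i U hFT x hx
  · haveI : Epi (Abelian.factorThruImage ψ) := inferInstance
    let σ : SheafOfModules.GeneratingSections.{u} K :=
      ⟨I, K.freeHomEquiv (Abelian.factorThruImage ψ), by rw [Equiv.symm_apply_apply]; infer_instance⟩
    exact ⟨W, σ.ofEpi e.inv, hx, inferInstanceAs (Finite I)⟩

end Groth.L17.CohUnion
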