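import Groth.Agent.L17.CohUnion.Step
import Groth.Agent.L19.FPExtend.Colim
import Groth.Agent.L00.AlgQCoh

/-!
# A section of a quasi-coherent module lies in a coherent submodule (locally Noetherian schemes)
-/

set_option autoImplicit false
set_option linter.style.haveILetI false
set_option backward.isDefEq.respectTransparency false

universe u

open CategoryTheory CategoryTheory.Limits AlgebraicGeometry TopologicalSpace Opposite

noncomputable section

namespace Groth.L17.CohUnion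

open Groth.L17.Approx (FTOn exists_fg_submodule ftOn_of_isIso_restrict exists_image_sections isIso_restrict_of_bijective)
open Groth.L18.Frame (rs rs_rs rs_self)

variable {X : Scheme.{u}}

/-- The kernel of the projection to the cokernel, on sections. -/
theorem mem_range_iff {E M : X.Modules} (i : E ⟶ M) [Mono i] {O : X.Opens} (s : Γ(M, O)) :
    (cokernel.π i).app O s = 0 ↔ s ∈ Set.range (i.app O) := by
  constructor
  · intro hs
    obtain ⟨k, rfl⟩ := Groth.L19.FPExtend.exists_kernel_section (cokernel.π i) s hs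
    exact ⟨(Abelian.monoLift i (kernel.ι (cokernel.π i)) (kernel.condition _)).app O k,
      congr(($(Abelian.monoLift_comp i (kernel.ι (cokernel.π i)) (kernel.condition _))).app O k)⟩
  · rintro ⟨t, rfl⟩
    exact congr(($(cokernel.condition i)).app O t)

/-- Submodules with the same sections over the opens of `U` agree on `U`. -/
theorem exists_iso_of_range {E E' M : X.Modules} (a : E ⟶ M) (b : E' ⟶ M) [Mono a] [Mono b] (U : X.Opens)
    (h : ∀ O, O ≤ U → Set.range (a.app O) = Set.range (b.app O)) :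
    ∃ e : E.restrict U.ι ≅ E'.restrict U.ι,
      e.hom ≫ (Scheme.Modules.restrictFunctor U.ι).map b = (Scheme.Modules.restrictFunctor U.ι).map a := by
  let R := Scheme.Modules.restrictFunctor U.ι
  have key : ∀ {A B : X.Modules} (a : A ⟶ M) (b : B ⟶ M) [Mono a] [Mono b],
      (∀ O, O ≤ U → Set.range (a.app O) ⊆ Set.range (b.app O)) →
      ∃ g : R.obj A ⟶ R.obj B, g ≫ R.map b = R.map a := by
    intro A B a b _ _ h
    have h0 : R.map a ≫ R.map (cokernel.π b) = 0 := by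
      refine Scheme.Modules.hom_ext _ _ fun O => ?_
      refine ConcreteCategory.hom_ext _ _ fun s => ?_
      exact (mem_range_iff b _).2 (h (U.ι ''ᵁ O) (by rintro _ ⟨x, -, rfl⟩; exact x.2) ⟨s, rfl⟩)
    refine ⟨Abelian.monoLift (R.map b) (R.map a) ?_, Abelian.monoLift_comp _ _ _⟩
    rw [← PreservesCokernel.π_iso_hom, ← Category.assoc, h0, zero_comp]
  obtain ⟨g, hg⟩ := key a b fun O hO => (h O hO).le
  obtain ⟨g', hg'⟩ := key b a fun O hO => (h O hO).ge
  exact ⟨⟨g, g', by rw [← cancel_mono (R.map a), Category.assoc, hg', hg, Category.id_comp],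
    by rw [← cancel_mono (R.map b), Category.assoc, hg, hg', Category.id_comp]⟩, hg⟩

/-- Finite type transfers between submodules agreeing on an open. -/
theorem ftOn_of_range {E E' M : X.Modules} (a : E ⟶ M) (b : E' ⟶ M) [Mono a] [Mono b] (U : X.Opens)
    (h : ∀ O, O ≤ U → Set.range (a.app O) = Set.range (b.app O)) (hft : FTOn E U) : FTOn E' U := by
  intro x hx
  obtain ⟨V, σ, hxV, hσ⟩ := hft x hx
  obtain ⟨τ, hτ⟩ := Groth.L00.Local.exists_generators_restrict_le E (inf_le_left : V ⊓ U ≤ V) σ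
  obtain ⟨e, -⟩ := exists_iso_of_range a b (V ⊓ U) fun O hO => h O (hO.trans inf_le_right)
  exact ⟨V ⊓ U, τ.ofEpi e.hom, ⟨hxV, hx⟩, hτ ▸ hσ⟩

variable (M : X.Modules) (V : X.Opens) (m : Γ(M, V))

/-- A submodule containing the section, of finite type on an open. -/
structure Cand where
  U : X.Opens
  E : X.Modules
  i : E ⟶ M
  mono : Mono i
  qc : Coh.IsQCoh E
  le : V ≤ U
  ft : FTOn E (U : Set X)
  mem : m ∈ Set.range (i.app V)

variable {M V m}

/-- Extension of candidates. -/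
def Ext (c c' : Cand M V m) : Prop :=
  c.U ≤ c'.U ∧ ∀ O, O ≤ c.U → Set.range (c.i.app O) = Set.range (c'.i.app O)

theorem Ext.refl (c : Cand M V m) : Ext c c := ⟨le_rfl, fun _ _ => rfl⟩

theorem Ext.trans {a b c : Cand M V m} (h : Ext a b) (h' : Ext b c) : Ext a c :=
  ⟨h.1.trans h'.1, fun O hO => (h.2 O hO).trans (h'.2 O (hO.trans h.1))⟩

theorem exists_bound [IsLocallyNoetherian X] [Coh.IsQCoh M] {C : Set (Cand M V m)} (hC : IsChain Ext C)
    (hne : C.Nonempty) : ∃ ub : Cand M V m, ∀ a ∈ C, Ext a ub := by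
  classical
  let T : Type (u + 1) := C
  let Uinf : X.Opens := ⨆ c : T, c.1.U
  haveI := fun c : T => c.1.mono
  haveI := fun c : T => c.1.qc
  -- the product is indexed by the opens, a small type
  let I : Type u := {O : X.Opens // ∃ c : T, c.1.U = O}
  choose cc hcc using fun o : I => o.2
  let tgt : I → X.Modules := fun o => (Scheme.Modules.pushforward (cc o).1.U.ι).obj
    ((Scheme.Modules.restrictFunctor (cc o).1.U.ι).obj (cokernel (cc o).1.i))
  let φ : ∀ o : I, M ⟶ tgt o := fun o => (Scheme.Modules.restrictAdjunction (cc o).1.U.ι).unit.app M ≫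
    (Scheme.Modules.pushforward (cc o).1.U.ι).map
      ((Scheme.Modules.restrictFunctor (cc o).1.U.ι).map (cokernel.π (cc o).1.i))
  let Φ : M ⟶ ∏ᶜ tgt := Pi.lift φ
  have hφ : ∀ (o : I) (O : X.Opens) (s : Γ(M, O)), (φ o).app O s =
      (cokernel.π (cc o).1.i).app ((cc o).1.U.ι ''ᵁ ((cc o).1.U.ι ⁻¹ᵁ O))
        (rs M ((cc o).1.U.ι.image_preimage_le O) s) := fun o O s => rfl
  -- sections of the intersection over a member
  have hrange : ∀ (c : T) (O : X.Opens), O ≤ c.1.U →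
      Set.range (c.1.i.app O) = Set.range ((kernel.ι Φ).app O) := by
    intro c O hO
    ext s
    constructor
    · rintro ⟨t, rfl⟩
      have hall : ∀ o : I, (φ o).app O (c.1.i.app O t) = 0 := fun o => by
        rw [hφ, mem_range_iff]
        let W := (cc o).1.U.ι ''ᵁ ((cc o).1.U.ι ⁻¹ᵁ O)
        have hWd : W ≤ (cc o).1.U := by rintro _ ⟨x, -, rfl⟩; exact x.2
        have hW : rs M ((cc o).1.U.ι.image_preimage_le O) (c.1.i.app O t) ∈ Set.range (c.1.i.app W) :=
          ⟨rs c.1.E ((cc o).1.U.ι.image_preimage_le O) t, Groth.L16.EpiFrames.app_rs _ _ _⟩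
        rcases eq_or_ne c.1 (cc o).1 with he | he
        · exact (congrArg (fun d : Cand M V m => Set.range (d.i.app W)) he) ▸ hW
        rcases hC c.2 (cc o).2 he with hr | hr
        · rwa [← hr.2 W (((cc o).1.U.ι.image_preimage_le O).trans hO)]
        · rwa [hr.2 W hWd]
      let G : SheafOfModules.{u} X.ringCatSheaf ⥤ _ := SheafOfModules.evaluation.{u} X.ringCatSheaf (op O)
      have h0 : Φ.app O (c.1.i.app O t) = 0 := by
        refine Concrete.isLimit_ext _ (isLimitOfHasProductOfPreservesLimit G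
          (fun o => (show SheafOfModules.{u} X.ringCatSheaf from tgt o))) _ _ fun ⟨o⟩ => ?_
        refine Eq.trans ?_ (map_zero _).symm
        exact (congr(($(Pi.lift_π φ o)).app O (c.1.i.app O t))).trans (hall o)
      exact ⟨_, (Groth.L19.FPExtend.exists_kernel_section Φ _ h0).choose_spec⟩
    · rintro ⟨k, rfl⟩
      let o : I := ⟨c.1.U, c, rfl⟩
      have h1 : (φ o).app O ((kernel.ι Φ).app O k) = 0 := by
        have h2 : kernel.ι Φ ≫ φ o = 0 := by
          rw [show φ o = Φ ≫ Pi.π tgt o from (Pi.lift_π φ o).symm, ← Category.assoc, kernel.condition, zero_comp]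
        exact congr(($h2).app O k)
      rw [hφ, mem_range_iff] at h1
      have hW : O ≤ (cc o).1.U.ι ''ᵁ ((cc o).1.U.ι ⁻¹ᵁ O) := by
        rw [(cc o).1.U.ι.image_preimage_eq_opensRange_inf, Scheme.Opens.opensRange_ι, hcc o]
        exact le_inf hO le_rfl
      obtain ⟨t, ht⟩ := h1
      have ht' : (kernel.ι Φ).app O k ∈ Set.range ((cc o).1.i.app O) := by
        refine ⟨rs _ hW t, ?_⟩
        rw [Groth.L16.EpiFrames.app_rs, ht]
        exact (rs_rs M _ _ _).trans (rs_self M _ _)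
      rcases eq_or_ne c.1 (cc o).1 with he | he
      · rwa [he]
      rcases hC c.2 (cc o).2 he with hr | hr
      · rwa [hr.2 O hO]
      · rwa [← hr.2 O (hO.trans (hcc o).ge)]
  haveI hKq : Coh.IsQCoh ((kernel Φ).restrict Uinf.ι) := by
    refine Groth.L00.AlgQCoh.isQCoh_of_cover fun x => ?_
    obtain ⟨c, hc⟩ := Opens.mem_iSup.1 (show x.1 ∈ (⨆ c : T, c.1.U : X.Opens) from x.2)
    obtain ⟨e, -⟩ := exists_iso_of_range c.1.i (kernel.ι Φ) c.1.U (hrange c)
    haveI : Coh.IsQCoh (c.1.E.restrict c.1.U.ι) := Scheme.Modules.isQuasicoherent_restrictFunctor _ c.1.E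
    haveI hq : Coh.IsQCoh ((kernel Φ).restrict c.1.U.ι) := Groth.L29.DC.isQCoh_of_iso' e inferInstance
    let W : Uinf.toScheme.Opens := Uinf.ι ⁻¹ᵁ c.1.U
    refine ⟨W, hc, ?_⟩
    have hW : ∀ y : W.toScheme, (W.ι ≫ Uinf.ι) y ∈ c.1.U := fun y => y.2
    let g : W.toScheme ⟶ c.1.U.toScheme := IsOpenImmersion.lift c.1.U.ι (W.ι ≫ Uinf.ι) (by
      rw [Scheme.Opens.range_ι]
      rintro _ ⟨y, rfl⟩
      exact hW y)
    have hg : g ≫ c.1.U.ι = W.ι ≫ Uinf.ι := IsOpenImmersion.lift_fac _ _ _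
    haveI : IsOpenImmersion (g ≫ c.1.U.ι) := hg ▸ inferInstance
    haveI : IsOpenImmersion g := IsOpenImmersion.of_comp g c.1.U.ι
    have hgq : Coh.IsQCoh ((Scheme.Modules.restrictFunctor c.1.U.ι ⋙ Scheme.Modules.restrictFunctor g).obj (kernel Φ)) :=
      Scheme.Modules.isQuasicoherent_restrictFunctor g ((kernel Φ).restrict c.1.U.ι)
    exact Groth.L29.DC.isQCoh_of_iso' (((Scheme.Modules.restrictFunctorComp g c.1.U.ι).symm ≪≫
      Scheme.Modules.restrictFunctorCongr hg ≪≫ Scheme.Modules.restrictFunctorComp W.ι Uinf.ι).app (kernel Φ))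
      hgq
  obtain ⟨E, j, e, hj, hE, he, -⟩ := exists_shrink M Uinf ((kernel Φ).restrict Uinf.ι)
    ((Scheme.Modules.restrictFunctor Uinf.ι).map (kernel.ι Φ))
  have hjr : ∀ O, O ≤ Uinf → Set.range (j.app O) = Set.range ((kernel.ι Φ).app O) := by
    intro O hO
    obtain ⟨O', rfl⟩ : ∃ O' : Uinf.toScheme.Opens, Uinf.ι ''ᵁ O' = O := ⟨Uinf.ι ⁻¹ᵁ O, by
      rw [Uinf.ι.image_preimage_eq_opensRange_inf, Scheme.Opens.opensRange_ι, inf_eq_right.2 hO]⟩
    ext s
    constructor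
    · rintro ⟨t, rfl⟩
      exact ⟨e.hom.app O' t, congr(($he).app O' t)⟩
    · rintro ⟨t, rfl⟩
      refine ⟨e.inv.app O' t, ?_⟩
      have h2 : e.inv ≫ (Scheme.Modules.restrictFunctor Uinf.ι).map j =
          (Scheme.Modules.restrictFunctor Uinf.ι).map (kernel.ι Φ) := by rw [← he, Iso.inv_hom_id_assoc]
      exact congr(($h2).app O' t)
  have hle : ∀ c : T, c.1.U ≤ Uinf := fun c => le_iSup (fun c : T => c.1.U) c
  have hcj : ∀ (c : T) (O : X.Opens), O ≤ c.1.U → Set.range (c.1.i.app O) = Set.range (j.app O) :=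
    fun c O hO => (hrange c O hO).trans (hjr O (hO.trans (hle c))).symm
  obtain ⟨c₀, hc₀⟩ := hne
  refine ⟨⟨Uinf, E, j, hj, hE, c₀.le.trans (hle ⟨c₀, hc₀⟩), fun x hx => ?_, ?_⟩,
    fun a ha => ⟨hle ⟨a, ha⟩, hcj ⟨a, ha⟩⟩⟩
  · obtain ⟨c, hc⟩ := Opens.mem_iSup.1 (show x ∈ (⨆ c : T, c.1.U : X.Opens) from hx)
    exact ftOn_of_range c.1.i j c.1.U (hcj c) c.1.ft x hc
  · rw [← hcj ⟨c₀, hc₀⟩ V c₀.le]
    exact c₀.mem

/-- A section over an affine open lies in a coherent submodule. -/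
theorem exists_coh_submodule [IsLocallyNoetherian X] (M : X.Modules) [Coh.IsQCoh M] {V : X.Opens}
    (hV : IsAffineOpen V) (m : Γ(M, V)) :
    ∃ (E : X.Modules) (i : E ⟶ M), Mono i ∧ Coh.IsCoh E ∧ m ∈ Set.range (i.app V) := by
  classical
  haveI : Coh.IsQCoh (M.restrict V.ι) := Scheme.Modules.isQuasicoherent_restrictFunctor _ M
  obtain ⟨K, a, ha, hK, hKft, hat⟩ := exists_image_sections (M.restrict V.ι) (I := PUnit.{u + 1})
    (fun _ => rs M V.ι_image_top.le m)
  obtain ⟨E₀, i₀, e, hi₀, hE₀, he, -⟩ := exists_shrink M V K a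
  have hft₀ : FTOn E₀ (V : Set X) := by
    intro x hx
    obtain ⟨W, σ, hxW, hσ⟩ := Groth.L00.Local.exists_generators_of_isFT K hKft (⟨x, hx⟩ : V.toScheme)
    let τ : (E₀.restrict (W.ι ≫ V.ι)).GeneratingSections :=
      (σ.ofEpi ((Scheme.Modules.restrictFunctor W.ι).map e.inv)).ofEpi
        (Groth.L16.restrictCompIso W.ι V.ι E₀).hom
    let W' : X.Opens := V.ι ''ᵁ W
    let g : W'.toScheme ⟶ W.toScheme := IsOpenImmersion.lift (W.ι ≫ V.ι) W'.ι (by
      rw [Scheme.Opens.range_ι]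
      rintro _ ⟨y, hy, rfl⟩
      exact ⟨⟨y, hy⟩, rfl⟩)
    have hg : g ≫ W.ι ≫ V.ι = W'.ι := IsOpenImmersion.lift_fac _ _ _
    haveI : IsOpenImmersion (g ≫ W.ι ≫ V.ι) := hg ▸ inferInstance
    haveI : IsOpenImmersion g := IsOpenImmersion.of_comp g (W.ι ≫ V.ι)
    obtain ⟨τ', hτ'⟩ := Groth.L16.CohKernel.exists_generators_of_comp g (W.ι ≫ V.ι) W'.ι hg E₀ τ
    exact ⟨W', τ', ⟨⟨x, hx⟩, hxW, rfl⟩, hτ' ▸ (show Finite τ.I from hσ)⟩
  obtain ⟨k, hk⟩ := hat ⟨⟩
  have hmem : m ∈ Set.range (i₀.app V) := by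
    have h' : i₀.app (V.ι ''ᵁ ⊤) (e.inv.app ⊤ k) = rs M V.ι_image_top.le m := by
      have h2 : e.inv ≫ (Scheme.Modules.restrictFunctor V.ι).map i₀ = a := by rw [← he, Iso.inv_hom_id_assoc]
      exact (congr(($h2).app ⊤ k)).trans hk
    refine ⟨rs E₀ V.ι_image_top.ge (show Γ(E₀, V.ι ''ᵁ ⊤) from e.inv.app ⊤ k), ?_⟩
    rw [Groth.L16.EpiFrames.app_rs, h']
    exact (rs_rs M _ _ _).trans (rs_self M _ _)
  let c₀ : Cand M V m := ⟨V, E₀, i₀, hi₀, hE₀, le_rfl, hft₀, hmem⟩
  obtain ⟨c, hc⟩ := exists_maximal_of_chains_bounded (α := Cand M V m) (r := Ext) (fun C hC => by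
    rcases C.eq_empty_or_nonempty with rfl | hne
    · exact ⟨c₀, fun a ha => absurd ha (Set.notMem_empty a)⟩
    · exact exists_bound hC hne) (fun {_ _ _} => Ext.trans)
  haveI := c.qc
  haveI := c.mono
  refine ⟨c.E, c.i, c.mono, ⟨c.qc, Groth.L00.Local.isFT_of_generators c.E fun x => c.ft x ?_⟩, c.mem⟩
  obtain ⟨_, ⟨W, hW, rfl⟩, hxW, -⟩ :=
    X.isBasis_affineOpens.exists_subset_of_mem_open (Set.mem_univ x) isOpen_univ
  obtain ⟨E, i, hi, hE, hiso, hft⟩ := exists_step c.E c.U c.ft hW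
  haveI := hi
  haveI := hiso
  have hr : ∀ O, O ≤ c.U → Set.range (c.i.app O) = Set.range ((i ≫ c.i).app O) := fun O hO => by
    refine Set.Subset.antisymm ?_ ?_
    · rintro _ ⟨t, rfl⟩
      obtain ⟨t', rfl⟩ := (Groth.L17.Approx.bijective_app_of_isIso_restrict i hO).2 t
      exact ⟨t', rfl⟩
    · rintro _ ⟨t, rfl⟩
      exact ⟨i.app O t, rfl⟩
  let c' : Cand M V m := ⟨c.U ⊔ W, E, i ≫ c.i, inferInstance, hE, c.le.trans le_sup_left,
    by rw [Opens.coe_sup]; exact hft, by rw [← hr V c.le]; exact c.mem⟩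
  exact ((hc c' ⟨le_sup_left, hr⟩).1 : c.U ⊔ W ≤ c.U) (Or.inr hxW)

end Groth.L17.CohUnion
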