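import Groth.Agent.L17.CohUnion.Extend
import Groth.Agent.L16.DevissageKilled
import Groth.Agent.L16.CohSupport

/-!
# Quasi-coherent modules on locally Noetherian schemes are filtered unions of coherent submodules
-/

set_option autoImplicit false
set_option linter.style.haveILetI false
set_option backward.isDefEq.respectTransparency.types false
set_option backward.isDefEq.respectTransparency false

universe u

open CategoryTheory CategoryTheory.Limits AlgebraicGeometry TopologicalSpace Opposite

noncomputable section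

namespace Groth.L17.CohUnion

variable {X : Scheme.{u}}

/-- A quasi-coherent module is a filtered colimit of coherent submodules. -/
theorem exists_isColimit_coh [IsLocallyNoetherian X] (F : X.Modules) [Coh.IsQCoh F] :
    ∃ (I : Type u) (_ : SmallCategory I) (_ : IsFiltered I) (D : I ⥤ X.Modules) (c : Cocone D)
      (_ : IsColimit c), (∀ i, Coh.IsCoh (D.obj i)) ∧ (∀ i, Mono (c.ι.app i)) ∧ c.pt = F := by
  classical
  let T : Type u := Σ V : X.affineOpens, Γ(F, V.1)
  choose P f hPm hP hf using fun t : T => exists_coh_submodule F t.1.2 t.2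
  let fam : ∀ A : Finset T, Fin A.card → X.Modules := fun A k => P (A.equivFin.symm k).1
  let pA : ∀ A : Finset T, ∐ fam A ⟶ F := fun A => Sigma.desc fun k => f (A.equivFin.symm k).1
  let D₀ : Finset T → X.Modules := fun A => Abelian.image (pA A)
  have key : ∀ {A A' : Finset T}, A ⊆ A' → Abelian.image.ι (pA A) ≫ cokernel.π (pA A') = 0 := fun {A A'} h => by
    rw [← cancel_epi (Abelian.factorThruImage (pA A)), comp_zero, ← Category.assoc, Abelian.image.fac]
    refine Sigma.hom_ext _ _ fun k => ?_
    rw [comp_zero, Sigma.ι_desc_assoc]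
    have hk : f (A.equivFin.symm k).1 =
        eqToHom (show P (A.equivFin.symm k).1 = fam A' (A'.equivFin ⟨_, h (A.equivFin.symm k).2⟩) by simp [fam]) ≫
          Sigma.ι (fam A') (A'.equivFin ⟨_, h (A.equivFin.symm k).2⟩) ≫ pA A' := by
      simp only [pA, Sigma.ι_desc]
      have e : ∀ {s t : T} (hst : s = t) (he : P s = P t), f s = eqToHom he ≫ f t := by
        rintro s _ rfl he
        rw [eqToHom_refl, Category.id_comp]
      exact e (by simp) _
    rw [hk, Category.assoc, Category.assoc, cokernel.condition, comp_zero, comp_zero]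
  let mp : ∀ {A A' : Finset T}, A ⊆ A' → (D₀ A ⟶ D₀ A') := fun h =>
    kernel.lift _ (Abelian.image.ι (pA _)) (key h)
  have mp_ι : ∀ {A A' : Finset T} (h : A ⊆ A'), mp h ≫ Abelian.image.ι (pA A') = Abelian.image.ι (pA A) :=
    fun h => kernel.lift_ι _ _ _
  let 𝒟 : Finset T ⥤ X.Modules :=
    { obj := D₀
      map := fun {A A'} h => mp (leOfHom h)
      map_id := fun A => (cancel_mono (Abelian.image.ι (pA A))).1 ((mp_ι (leOfHom (𝟙 A))).trans (Category.id_comp _).symm)
      map_comp := fun {A B C} h h' => (cancel_mono (Abelian.image.ι (pA C))).1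
        ((mp_ι (leOfHom (h ≫ h'))).trans ((((Category.assoc _ _ _).trans
          (congrArg (mp (leOfHom h) ≫ ·) (mp_ι (leOfHom h')))).trans (mp_ι (leOfHom h)))).symm) }
  let c : Cocone 𝒟 :=
    { pt := F
      ι :=
        { app := fun A => Abelian.image.ι (pA A)
          naturality := fun A A' h => (mp_ι (leOfHom h)).trans (Category.comp_id _).symm } }
  have hD : ∀ A, Coh.IsCoh (D₀ A) := fun A =>
    Groth.L16.CohSupport.isCoh_image (Groth.L16.Devissage.isCoh_sigma (fam A) fun k => hP _) (pA A)
  refine ⟨Finset T, inferInstance, inferInstance, 𝒟, c, ?_, hD,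
    fun A => inferInstanceAs (Mono (Abelian.image.ι (pA A))), rfl⟩
  haveI : IsIso ((colimit.isColimit 𝒟).desc c) := by
    rw [Groth.L21.Mod.isIso_iff_stalk_bijective]
    intro x
    let S := Groth.L21.Mod.stalkF X x
    haveI : PreservesColimitsOfSize.{u, u} S := Groth.L00.Stk.preservesColimits_stalkF x
    let hS := isColimitOfPreserves S (colimit.isColimit 𝒟)
    have hfac : ∀ (A : Finset T) (z : S.obj (D₀ A)),
        S.map ((colimit.isColimit 𝒟).desc c) (S.map (colimit.ι 𝒟 A) z) = S.map (Abelian.image.ι (pA A)) z := by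
      intro A z
      show (S.map (colimit.ι 𝒟 A) ≫ S.map ((colimit.isColimit 𝒟).desc c)) z = _
      rw [← S.map_comp]
      exact congrArg (fun m : 𝒟.obj A ⟶ F => S.map m z) ((colimit.isColimit 𝒟).fac c A)
    refine ⟨(injective_iff_map_eq_zero _).2 fun z hz => ?_, fun y => ?_⟩
    · obtain ⟨A, z, rfl⟩ := Concrete.isColimit_exists_rep (𝒟 ⋙ S) hS z
      change S.map ((colimit.isColimit 𝒟).desc c) (S.map (colimit.ι 𝒟 A) z) = 0 at hz
      rw [hfac] at hz
      haveI : Mono (Abelian.image.ι (pA A)) := inferInstance
      haveI : Mono (S.map (Abelian.image.ι (pA A))) := inferInstance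
      have : z = 0 := (AddCommGrpCat.mono_iff_injective (S.map (Abelian.image.ι (pA A)))).1 inferInstance
        (hz.trans (map_zero _).symm)
      rw [this]
      exact map_zero _
    · obtain ⟨U, hxU, s, rfl⟩ := TopCat.Presheaf.exists_germ_eq F.presheaf y
      obtain ⟨B, hB, hxB, hBU⟩ := exists_isAffineOpen_mem_and_subset (x := x) (U := U) hxU
      let t : T := ⟨⟨B, hB⟩, Groth.L18.Frame.rs F (SetLike.coe_subset_coe.1 hBU) s⟩
      let A : Finset T := {t}
      obtain ⟨p, hp⟩ := hf t
      let k : Fin A.card := A.equivFin ⟨t, Finset.mem_singleton_self t⟩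
      have he : P t = fam A k := by simp [fam, k]
      let e : P t ⟶ D₀ A := eqToHom he ≫ Sigma.ι (fam A) k ≫ Abelian.factorThruImage (pA A)
      have hef : e ≫ Abelian.image.ι (pA A) = f t := by
        simp only [e, Category.assoc, Abelian.image.fac, pA, Sigma.ι_desc]
        have e' : ∀ {s : T} (hst : s = t) (he : P t = P s), eqToHom he ≫ f s = f t := by
          rintro _ rfl he
          rw [eqToHom_refl, Category.id_comp]
        exact e' (by simp [k]) _
      refine ⟨S.map (colimit.ι 𝒟 A) (S.map e ((P t).presheaf.germ B x hxB p)), ?_⟩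
      rw [hfac, ← ConcreteCategory.comp_apply, ← S.map_comp, hef, Groth.L21.Mod.stalkF_map_germ, hp]
      exact Groth.L20.ModStalk.germ_rs F _ hxB s
  exact IsColimit.ofPointIso (colimit.isColimit 𝒟)

end Groth.L17.CohUnion
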